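import Groth.Agent.L28.Flasque.Push
import Groth.Agent.L28.Supp.DerComp
import Groth.Agent.L27.EtSite.Push
import Groth.Agent.L00.RDerLES
import Mathlib.CategoryTheory.Abelian.GrothendieckCategory.EnoughInjectives

/-!
Vanishing of higher direct images from vanishing over affines, and cohomology of disjoint unions.
-/

set_option autoImplicit false
set_option linter.style.haveILetI false
set_option linter.unusedSectionVars false
set_option backward.isDefEq.respectTransparency.types false

universe u

open CategoryTheory CategoryTheory.Limits AlgebraicGeometry Opposite CategoryTheory.Abelian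
open Groth.L27.LimCoh (δH exists_δH eq_zero_of_injective secEq secEq_map δH_map_g)

namespace Groth.L28.Flasque

variable {X Y : Scheme.{u}}

/-- acyclic on the étale scheme `W` -/
def AcycAt (W : X.Etale) (F : EtCoh.Ab X) : Prop :=
  ∀ q : ℕ, 0 < q → Subsingleton (EtCoh.H W.left ((EtCoh.pull (X := W.left) (Y := X) W.hom).obj F) q)

theorem acycAt_X₃ {E : ShortComplex (EtCoh.Ab X)} (hE : E.ShortExact) [Injective E.X₂] (W : X.Etale)
    (hF : AcycAt W E.X₁) : AcycAt W E.X₃ := by
  intro q hq
  let h : W.left ⟶ X := W.hom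
  haveI : AlgebraicGeometry.Etale h := W.prop
  haveI := Groth.L27.ExtZero.jCont h
  haveI := Groth.L27.EtSite.preservesFiniteLimits_pull h
  haveI : Injective (E.map (EtCoh.pull h)).X₂ := Groth.L27.ExtZero.injective_pull h E.X₂
  obtain ⟨q, rfl⟩ : ∃ j, q = j + 1 := ⟨q - 1, by omega⟩
  haveI := hF (q + 2) (by omega)
  refine subsingleton_of_forall_eq 0 fun x => ?_
  obtain ⟨z, hz⟩ := Groth.L27.LimCoh.exists_map_of_δH_eq_zero (hE.map_of_exact (EtCoh.pull h)) (q + 1) x
    (Subsingleton.elim (α := EtCoh.H W.left ((EtCoh.pull h).obj E.X₁) (q + 2)) _ _)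
  rw [← hz, eq_zero_of_injective _ q z]
  exact map_zero ((EtCoh.HF W.left (q + 1)).map (E.map (EtCoh.pull h)).g).hom

theorem epi_push_map_of_affine (f : X ⟶ Y) {E : ShortComplex (EtCoh.Ab X)} (hE : E.ShortExact)
    (h : ∀ V : Y.Etale, IsAffine V.left → AcycAt ((EtCoh.bc f).obj V) E.X₁) :
    Epi ((EtCoh.push f).map E.g) := by
  refine (Sheaf.isLocallySurjective_iff_epi' (φ := (EtCoh.push f).map E.g)).1 ⟨fun {V} s => ?_⟩
  refine (Groth.L27.EtSite.mem_topology_iff _).2 fun x => ?_
  obtain ⟨_, ⟨(A : V.left.Opens), hA, rfl⟩, hxA, -⟩ :=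
    V.left.isBasis_affineOpens.exists_subset_of_mem_open (Set.mem_univ x) isOpen_univ
  let v : V.left ⟶ Y := V.hom
  haveI : AlgebraicGeometry.Etale v := V.prop
  let V' : Y.Etale := Scheme.Etale.mk (A.ι ≫ v)
  let g : V' ⟶ V := MorphismProperty.Over.homMk A.ι rfl
  haveI : IsAffine V'.left := hA
  obtain ⟨t, ht⟩ := surjective_sections hE ((EtCoh.bc f).obj V') (h V' hA 1 (by omega))
    (((EtCoh.push f).obj E.X₃).obj.map g.op s)
  exact ⟨V', g, ⟨x, hxA⟩, ⟨t, ht⟩, rfl⟩

/-- higher direct images vanish when cohomology vanishes over affines -/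
theorem isZero_Rpush_of_affine (f : X ⟶ Y) : ∀ (q : ℕ) (F : EtCoh.Ab X),
    (∀ V : Y.Etale, IsAffine V.left → AcycAt ((EtCoh.bc f).obj V) F) → IsZero ((EtCoh.Rpush f (q + 1)).obj F) := by
  haveI : PreservesLimitsOfSize.{0, 0} (EtCoh.push f) := (EtCoh.pullPushAdj f).rightAdjoint_preservesLimits
  haveI : PreservesFiniteLimits (EtCoh.push f) := PreservesLimitsOfSize.preservesFiniteLimits _
  letI := HasDerivedCategory.standard (EtCoh.Ab X)
  intro q
  induction q with
  | zero =>
    intro F hF
    obtain ⟨S, hS, hI, rfl⟩ := Groth.L28.Supp.exists_presentation F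
    haveI : Epi (((EtCoh.push f).rightDerived 0).map S.g) := by
      haveI := epi_push_map_of_affine f hS hF
      rw [← NatIso.naturality_2 (EtCoh.push f).rightDerivedZeroIsoSelf S.g]
      infer_instance
    exact Groth.L00.RDerLES.isZero_X₁ (EtCoh.push f) hS 0
      ((EtCoh.push f).isZero_rightDerived_obj_injective_succ 0 S.X₂)
  | succ q ih =>
    intro F hF
    obtain ⟨S, hS, hI, rfl⟩ := Groth.L28.Supp.exists_presentation F
    haveI : Epi (((EtCoh.push f).rightDerived (q + 1)).map S.g) :=
      ⟨fun a b _ => (ih S.X₃ (fun V hV => acycAt_X₃ hS _ (hF V hV))).eq_of_src a b⟩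
    exact Groth.L00.RDerLES.isZero_X₁ (EtCoh.push f) hS (q + 1)
      ((EtCoh.push f).isZero_rightDerived_obj_injective_succ (q + 1) S.X₂)

/-- acyclicity glues along disjoint decompositions -/
theorem subsingleton_H_disjoint {ι : Type u} (V : ι → X.Etale) [∀ i, IsOpenImmersion (V i).hom]
    (hd : Pairwise fun i j => Disjoint (Set.range (V i).hom) (Set.range (V j).hom))
    (hc : ∀ x : X, ∃ i y, (V i).hom y = x) : ∀ (q : ℕ) (F : EtCoh.Ab X), (∀ i, AcycAt (V i) F) →
      Subsingleton (EtCoh.H X F (q + 1)) := by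
  intro q
  induction q with
  | zero =>
    intro F hF
    obtain ⟨E, hE, hI, rfl⟩ := Groth.L28.Supp.exists_presentation F
    refine subsingleton_of_forall_eq 0 fun x => ?_
    obtain ⟨y, rfl⟩ := exists_δH hE 0 x (eq_zero_of_injective _ 0 _)
    let c : ∀ i, V i ⟶ EtCoh.top X := fun i => MorphismProperty.Over.homMk (V i).hom (Category.comp_id _)
    haveI : ∀ i, IsOpenImmersion (c i).left := fun i => inferInstanceAs (IsOpenImmersion (V i).hom)
    choose t ht using fun i => surjective_sections hE (V i) (hF i 1 (by omega)) (E.X₃.obj.map (c i).op (secEq _ y))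
    have hb : ∀ G : EtCoh.Ab X, Function.Bijective
        fun (a : G.obj.obj (op (EtCoh.top X))) (i : ι) => G.obj.map (c i).op a := fun G =>
      Groth.L27.EtSite.bijective_of_disjoint ((sheafCompose X.smallEtaleTopology (forget AddCommGrpCat.{u + 1})).obj G)
        V c hd hc
    obtain ⟨s, hs⟩ := (hb E.X₂).2 t
    have hy : y = (EtCoh.HF X 0).map E.g ((secEq _).symm s) := by
      refine (secEq _).injective ?_
      rw [secEq_map, AddEquiv.apply_symm_apply]
      refine (hb E.X₃).1 (funext fun i => ?_)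
      exact ((congrArg (E.g.hom.app (op (V i))) (congrFun hs i)).trans (ht i)).symm.trans
        (NatTrans.naturality_apply E.g.hom (c i).op s)
    rw [hy]
    exact δH_map_g hE 0 _
  | succ q ih =>
    intro F hF
    obtain ⟨E, hE, hI, rfl⟩ := Groth.L28.Supp.exists_presentation F
    refine subsingleton_of_forall_eq 0 fun x => ?_
    obtain ⟨y, rfl⟩ := exists_δH hE (q + 1) x (eq_zero_of_injective _ (q + 1) _)
    haveI := ih E.X₃ fun i => acycAt_X₃ hE _ (hF i)
    rw [Subsingleton.elim y 0]
    exact map_zero _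

end Groth.L28.Flasque
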