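import Groth.Agent.L28.Flasque.Restr
import Groth.Agent.L27.InjPush.Basic
import Groth.Agent.L27.LimCoh.HMaps
import Groth.Agent.L27.EtSite.Pull

/-!
Direct images preserve flasque sheaves.
-/

set_option autoImplicit false
set_option linter.style.haveILetI false
set_option linter.unusedSectionVars false
set_option backward.isDefEq.respectTransparency.types false

universe u

open CategoryTheory CategoryTheory.Limits AlgebraicGeometry Opposite CategoryTheory.Abelian
open Groth.L27.LimCoh (δH exists_δH eq_zero_of_injective secEq secEq_map δH_map_g)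

namespace Groth.L28.Flasque

variable {X Y : Scheme.{u}}

/-- acyclic on all étale schemes -/
def HFlasque (F : EtCoh.Ab X) : Prop :=
  ∀ (W : X.Etale) (q : ℕ), 0 < q → Subsingleton (EtCoh.H W.left ((EtCoh.pull (X := W.left) (Y := X) W.hom).obj F) q)

theorem hflasque_X₃ {E : ShortComplex (EtCoh.Ab X)} (hE : E.ShortExact) [Injective E.X₂] (hF : HFlasque E.X₁) :
    HFlasque E.X₃ := by
  intro W q hq
  let h : W.left ⟶ X := W.hom
  haveI : AlgebraicGeometry.Etale h := W.prop
  haveI := Groth.L27.ExtZero.jCont h
  haveI := Groth.L27.EtSite.preservesFiniteLimits_pull h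
  haveI : Injective (E.map (EtCoh.pull h)).X₂ := Groth.L27.ExtZero.injective_pull h E.X₂
  obtain ⟨q, rfl⟩ : ∃ j, q = j + 1 := ⟨q - 1, by omega⟩
  haveI := hF W (q + 2) (by omega)
  refine subsingleton_of_forall_eq 0 fun x => ?_
  obtain ⟨z, hz⟩ := Groth.L27.LimCoh.exists_map_of_δH_eq_zero (hE.map_of_exact (EtCoh.pull h)) (q + 1) x
    (Subsingleton.elim (α := EtCoh.H W.left ((EtCoh.pull h).obj E.X₁) (q + 2)) _ _)
  rw [← hz, eq_zero_of_injective _ q z]
  exact map_zero ((EtCoh.HF W.left (q + 1)).map (E.map (EtCoh.pull h)).g).hom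

theorem subsingleton_H_push (f : X ⟶ Y) : ∀ (q : ℕ) (F : EtCoh.Ab X), HFlasque F →
    ∀ (W : Y.Etale), Subsingleton (EtCoh.H W.left ((EtCoh.pull (X := W.left) (Y := Y) W.hom).obj ((EtCoh.push f).obj F)) (q + 1)) := by
  intro q
  induction q with
  | zero =>
    intro F hF W
    let E : ShortComplex (EtCoh.Ab X) := ShortComplex.mk (Injective.ι F) (cokernel.π _) (cokernel.condition _)
    have hE : E.ShortExact :=
      { exact := ShortComplex.exact_of_g_is_cokernel _ (cokernelIsCokernel _)
        mono_f := inferInstanceAs (Mono (Injective.ι F))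
        epi_g := inferInstanceAs (Epi (cokernel.π (Injective.ι F))) }
    haveI : Injective E.X₂ := inferInstanceAs (Injective (Injective.under F))
    have hs : ∀ U : X.Etale, Function.Surjective (E.g.hom.app (op U)) := fun U =>
      surjective_sections hE U (hF U 1 (by omega))
    haveI : PreservesLimits (EtCoh.push f) := (EtCoh.pullPushAdj f).rightAdjoint_preservesLimits
    have hmono : Mono ((EtCoh.push f).map E.f) := by haveI := hE.mono_f; infer_instance
    have hepi : Epi ((EtCoh.push f).map E.g) := by
      haveI : Sheaf.IsLocallySurjective ((EtCoh.push f).map E.g) :=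
        Presheaf.isLocallySurjective_of_surjective _ _ fun U => hs ((EtCoh.bc f).obj U.unop)
      exact (Sheaf.isLocallySurjective_iff_epi' AddCommGrpCat.{u + 1} _).mp inferInstance
    haveI : (EtCoh.push f).Additive := (EtCoh.pullPushAdj f).right_adjoint_additive
    have hE' : (E.map (EtCoh.push f)).ShortExact :=
      { exact := hE.exact.map_of_mono_of_preservesKernel (EtCoh.push f) hE.mono_f inferInstance
        mono_f := hmono
        epi_g := hepi }
    let h : W.left ⟶ Y := W.hom
    haveI : AlgebraicGeometry.Etale h := W.prop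
    haveI := Groth.L27.ExtZero.jCont h
    haveI := Groth.L27.EtSite.preservesFiniteLimits_pull h
    haveI : Injective (E.map (EtCoh.push f)).X₂ := Groth.L27.InjPush.injective_push f E.X₂
    haveI : Injective ((E.map (EtCoh.push f)).map (EtCoh.pull h)).X₂ :=
      Groth.L27.ExtZero.injective_pull h (E.map (EtCoh.push f)).X₂
    have hS := hE'.map_of_exact (EtCoh.pull h)
    refine subsingleton_of_forall_eq 0 fun x => ?_
    obtain ⟨y, rfl⟩ := exists_δH hS 0 x (eq_zero_of_injective _ 0 _)
    let φ := (Groth.L27.ExtZero.pullRestr h)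
    let V := (EtShriek.compEtale h).obj (EtCoh.top W.left)
    obtain ⟨s, hs'⟩ := hs ((EtCoh.bc f).obj V) ((φ.hom.app (E.map (EtCoh.push f)).X₃).hom.app (op (EtCoh.top W.left)) (secEq _ y))
    let s' := (φ.inv.app (E.map (EtCoh.push f)).X₂).hom.app (op (EtCoh.top W.left)) s
    have hy : y = (EtCoh.HF W.left 0).map ((E.map (EtCoh.push f)).map (EtCoh.pull h)).g ((secEq _).symm s') := by
      refine (secEq _).injective ?_
      rw [secEq_map, AddEquiv.apply_symm_apply]
      refine Eq.trans ?_ (congrArg (fun k : (EtShriek.restrAlong h).obj (E.map (EtCoh.push f)).X₂ ⟶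
        (EtCoh.pull h).obj (E.map (EtCoh.push f)).X₃ => k.hom.app (op (EtCoh.top W.left)) s)
        (φ.inv.naturality (E.map (EtCoh.push f)).g))
      show _ = (φ.inv.app (E.map (EtCoh.push f)).X₃).hom.app (op (EtCoh.top W.left)) (E.g.hom.app (op ((EtCoh.bc f).obj V)) s)
      rw [hs']
      exact (congrArg (fun k : (EtCoh.pull h).obj (E.map (EtCoh.push f)).X₃ ⟶ (EtCoh.pull h).obj (E.map (EtCoh.push f)).X₃ =>
        k.hom.app (op (EtCoh.top W.left)) (secEq _ y)) (φ.hom_inv_id_app (E.map (EtCoh.push f)).X₃)).symm
    rw [hy]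
    exact δH_map_g hS 0 _
  | succ q ih =>
    intro F hF W
    let E : ShortComplex (EtCoh.Ab X) := ShortComplex.mk (Injective.ι F) (cokernel.π _) (cokernel.condition _)
    have hE : E.ShortExact :=
      { exact := ShortComplex.exact_of_g_is_cokernel _ (cokernelIsCokernel _)
        mono_f := inferInstanceAs (Mono (Injective.ι F))
        epi_g := inferInstanceAs (Epi (cokernel.π (Injective.ι F))) }
    haveI : Injective E.X₂ := inferInstanceAs (Injective (Injective.under F))
    have hs : ∀ U : X.Etale, Function.Surjective (E.g.hom.app (op U)) := fun U =>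
      surjective_sections hE U (hF U 1 (by omega))
    haveI : PreservesLimits (EtCoh.push f) := (EtCoh.pullPushAdj f).rightAdjoint_preservesLimits
    have hmono : Mono ((EtCoh.push f).map E.f) := by haveI := hE.mono_f; infer_instance
    have hepi : Epi ((EtCoh.push f).map E.g) := by
      haveI : Sheaf.IsLocallySurjective ((EtCoh.push f).map E.g) :=
        Presheaf.isLocallySurjective_of_surjective _ _ fun U => hs ((EtCoh.bc f).obj U.unop)
      exact (Sheaf.isLocallySurjective_iff_epi' AddCommGrpCat.{u + 1} _).mp inferInstance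
    haveI : (EtCoh.push f).Additive := (EtCoh.pullPushAdj f).right_adjoint_additive
    have hE' : (E.map (EtCoh.push f)).ShortExact :=
      { exact := hE.exact.map_of_mono_of_preservesKernel (EtCoh.push f) hE.mono_f inferInstance
        mono_f := hmono
        epi_g := hepi }
    let h : W.left ⟶ Y := W.hom
    haveI : AlgebraicGeometry.Etale h := W.prop
    haveI := Groth.L27.ExtZero.jCont h
    haveI := Groth.L27.EtSite.preservesFiniteLimits_pull h
    haveI : Injective (E.map (EtCoh.push f)).X₂ := Groth.L27.InjPush.injective_push f E.X₂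
    haveI : Injective ((E.map (EtCoh.push f)).map (EtCoh.pull h)).X₂ :=
      Groth.L27.ExtZero.injective_pull h (E.map (EtCoh.push f)).X₂
    have hS := hE'.map_of_exact (EtCoh.pull h)
    refine subsingleton_of_forall_eq 0 fun x => ?_
    obtain ⟨y, rfl⟩ := exists_δH hS (q + 1) x (eq_zero_of_injective _ (q + 1) _)
    haveI := ih E.X₃ (hflasque_X₃ hE hF) W
    rw [Subsingleton.elim (α := EtCoh.H W.left ((EtCoh.pull h).obj ((EtCoh.push f).obj E.X₃)) (q + 1)) y 0]
    exact map_zero _

end Groth.L28.Flasque
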