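import Groth.Agent.L27.MV.SES
import Groth.Agent.L27.Colim.Acyclic
import Groth.Agent.L27.ExtZero.Restr
import Groth.Agent.L27.ExtZero.Cont
import Mathlib.AlgebraicGeometry.Gluing

/-!
A sheaf acyclic on every étale scheme has surjective restrictions along open immersions.
-/

set_option autoImplicit false
set_option linter.style.haveILetI false

universe u

open CategoryTheory CategoryTheory.Limits AlgebraicGeometry Opposite CategoryTheory.Abelian

set_option backward.isDefEq.respectTransparency.types false

namespace Groth.L28.Flasque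

variable {X : Scheme.{u}}

theorem surjective_sections {E : ShortComplex (EtCoh.Ab X)} (hE : E.ShortExact) (U : X.Etale)
    (hU : Subsingleton (EtCoh.H U.left ((EtCoh.pull (X := U.left) (Y := X) U.hom).obj E.X₁) 1)) :
    Function.Surjective (E.g.hom.app (op U)) := by
  let h : U.left ⟶ X := U.hom
  haveI : AlgebraicGeometry.Etale h := U.prop
  haveI := L27.ExtZero.jCont h
  let R := EtShriek.restrAlong h
  haveI : PreservesLimitsOfSize.{0, 0} R := (EtShriek.extZeroAdj h).rightAdjoint_preservesLimits
  haveI : PreservesColimitsOfSize.{0, 0} R := (L27.ExtZero.restrAdj h).leftAdjoint_preservesColimits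
  haveI : PreservesFiniteLimits R := PreservesLimitsOfSize.preservesFiniteLimits _
  haveI : PreservesFiniteColimits R := PreservesColimitsOfSize.preservesFiniteColimits _
  haveI : R.Additive := (L27.ExtZero.restrAdj h).left_adjoint_additive
  have hR := hE.map_of_exact R
  let T := (EtShriek.compEtale h).obj (EtCoh.top U.left)
  let m : T ⟶ U := MorphismProperty.Over.homMk (𝟙 U.left) rfl
  let m' : U ⟶ T := MorphismProperty.Over.homMk (𝟙 U.left)
    ((Category.id_comp (𝟙 U.left ≫ h)).trans (Category.id_comp _))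
  intro q
  let hT := EtCore.topIsTerminal U.left
  let z : EtCoh.H U.left (R.obj E.X₃) 0 := (Sheaf.H.equiv₀ (R.obj E.X₃) hT).symm (E.X₃.obj.map m.op q)
  haveI hR1 : Subsingleton (EtCoh.H U.left (R.obj E.X₁) 1) := by
    let e : R.obj E.X₁ ≅ (EtCoh.pull h).obj E.X₁ := ((L27.ExtZero.pullRestr h).app E.X₁).symm
    refine ⟨fun a b => ?_⟩
    have hinj : Function.Injective (Sheaf.H.map e.hom 1) := fun a b hab => by
      have := congrArg (Sheaf.H.map e.inv 1) hab
      simpa [← Sheaf.H.map_comp_apply] using this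
    exact hinj (@Subsingleton.elim _ hU _ _)
  obtain ⟨y, hy⟩ := Ext.covariant_sequence_exact₃ _ hR z (zero_add 1) (@Subsingleton.elim _ hR1 _ _)
  let t : E.X₂.obj.obj (op T) := Sheaf.H.equiv₀ (R.obj E.X₂) hT y
  refine ⟨E.X₂.obj.map m'.op t, ?_⟩
  have ht : E.g.hom.app (op T) t = E.X₃.obj.map m.op q := by
    refine (Sheaf.H.equiv₀_naturality (f := R.map E.g) (hT := hT) y).trans ?_
    refine (congrArg (Sheaf.H.equiv₀ (R.obj E.X₃) hT) hy).trans ?_
    exact AddEquiv.apply_symm_apply _ _
  refine (NatTrans.naturality_apply E.g.hom m'.op t).trans ?_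
  refine (congrArg (E.X₃.obj.map m'.op) ht).trans ?_
  have hm : m' ≫ m = 𝟙 U := MorphismProperty.Over.Hom.ext (Category.id_comp _)
  rw [L27.Colim.map_comp, hm, op_id, E.X₃.obj.map_id, ConcreteCategory.id_apply]

theorem surjective_restr_injective (I : EtCoh.Ab X) [Injective I] {U V : X.Etale} (g : V ⟶ U) [Mono g] :
    Function.Surjective (I.obj.map g.op) := by
  intro s
  haveI := L27.MV.mono_freeMap g
  let φ : L27.Colim.freeSh U ⟶ I := Injective.factorThru ((L27.Colim.homEquiv V I).symm s) (L27.MV.freeMap g)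
  refine ⟨L27.Colim.homEquiv U I φ, ?_⟩
  rw [← L27.MV.homEquiv_freeMap_comp, Injective.comp_factorThru, AddEquiv.apply_symm_apply]

section Double

variable {U V : X.Etale} (g : V ⟶ U) [IsOpenImmersion g.left]

instance (f : WalkingSpan) (f' : WalkingSpan) (m : f ⟶ f') : IsOpenImmersion ((span g.left g.left).map m) := by
  cases m with
  | id => rw [show WidePushoutShape.Hom.id f = 𝟙 f from rfl, CategoryTheory.Functor.map_id]; infer_instance
  | init j => cases j <;> exact ‹IsOpenImmersion g.left›

theorem exists_double :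
    ∃ (W : X.Etale) (a b : U ⟶ W), g ≫ a = g ≫ b ∧
      ∀ (F : EtCoh.Ab X) (p q : F.obj.obj (op U)), F.obj.map g.op p = F.obj.map g.op q →
        ∃ r : F.obj.obj (op W), F.obj.map a.op r = p ∧ F.obj.map b.op r = q := by
  let h : U.left ⟶ X := U.hom
  haveI : AlgebraicGeometry.Etale h := U.prop
  let W₀ := pushout g.left g.left
  let a₀ : U.left ⟶ W₀ := pushout.inl g.left g.left
  let b₀ : U.left ⟶ W₀ := pushout.inr g.left g.left
  haveI : IsOpenImmersion a₀ := inferInstanceAs (IsOpenImmersion (colimit.ι (span g.left g.left) WalkingSpan.left))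
  haveI : IsOpenImmersion b₀ := inferInstanceAs (IsOpenImmersion (colimit.ι (span g.left g.left) WalkingSpan.right))
  let d : W₀ ⟶ X := pushout.desc h h rfl
  have hda : a₀ ≫ d = h := pushout.inl_desc _ _ _
  have hdb : b₀ ≫ d = h := pushout.inr_desc _ _ _
  have hcov : ∀ w : W₀, w ∈ Set.range a₀ ∨ w ∈ Set.range b₀ := by
    intro w
    obtain ⟨i, x, hx⟩ := Scheme.IsLocallyDirected.ι_jointly_surjective (span g.left g.left) w
    match i, x, hx with
    | none, x, hx =>
      refine Or.inl ⟨g.left x, ?_⟩
      rw [← hx, ← colimit.w (span g.left g.left) WalkingSpan.Hom.fst, Scheme.Hom.comp_apply]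
      rfl
    | some WalkingPair.left, x, hx => exact Or.inl ⟨x, hx⟩
    | some WalkingPair.right, x, hx => exact Or.inr ⟨x, hx⟩
  haveI : AlgebraicGeometry.Etale d := by
    refine IsZariskiLocalAtSource.of_openCover (P := @AlgebraicGeometry.Etale)
      (Scheme.IsLocallyDirected.openCover (span g.left g.left)) fun i => ?_
    match i with
    | none =>
      show AlgebraicGeometry.Etale (colimit.ι (span g.left g.left) WalkingSpan.zero ≫ d)
      rw [← colimit.w (span g.left g.left) WalkingSpan.Hom.fst, Category.assoc]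
      show AlgebraicGeometry.Etale (g.left ≫ a₀ ≫ d)
      rw [hda]
      haveI : AlgebraicGeometry.Etale g.left := L27.EtSite.etale_left g
      infer_instance
    | some WalkingPair.left =>
      show AlgebraicGeometry.Etale (a₀ ≫ d)
      rw [hda]
      infer_instance
    | some WalkingPair.right =>
      show AlgebraicGeometry.Etale (b₀ ≫ d)
      rw [hdb]
      infer_instance
  let W : X.Etale := Scheme.Etale.mk d
  let a : U ⟶ W := MorphismProperty.Over.homMk a₀ hda
  let b : U ⟶ W := MorphismProperty.Over.homMk b₀ hdb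
  have hab : g ≫ a = g ≫ b := MorphismProperty.Over.Hom.ext pushout.condition
  refine ⟨W, a, b, hab, fun F p q hpq => ?_⟩
  let ρ : Bool → (U ⟶ W) := fun c => bif c then a else b
  let R : Sieve W := Sieve.generate (Presieve.ofArrows (fun _ => U) ρ)
  have hR : R ∈ X.smallEtaleTopology W := by
    refine (L27.EtSite.mem_topology_iff _).2 fun w => ?_
    rcases hcov w with ⟨x, hx⟩ | ⟨x, hx⟩
    · exact ⟨U, a, x, Sieve.le_generate _ _ _ (Presieve.ofArrows.mk true), hx⟩
    · exact ⟨U, b, x, Sieve.le_generate _ _ _ (Presieve.ofArrows.mk false), hx⟩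
  have hsh := (Presieve.isSheafFor_iff_generate _).2 (((isSheaf_iff_isSheaf_of_type _ _).1
    ((Presheaf.isSheaf_iff_isSheaf_forget X.smallEtaleTopology F.obj (forget AddCommGrpCat.{u + 1})).1 F.property)) R hR)
  rw [Presieve.isSheafFor_arrows_iff] at hsh
  have hfac : ∀ {Z : X.Etale} (u v : Z ⟶ U), u ≫ a = v ≫ b → F.obj.map u.op p = F.obj.map v.op q := by
    intro Z u v e
    have e0 : u.left ≫ a₀ = v.left ≫ b₀ := congrArg (fun k => k.left) e
    have hr : Set.range u.left ⊆ Set.range g.left := by
      rintro _ ⟨z, rfl⟩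
      have e1 : a₀ (u.left z) = b₀ (v.left z) :=
        (Scheme.Hom.comp_apply _ _ _).symm.trans ((congrArg (fun k : Z.left ⟶ W₀ => k z) e0).trans (Scheme.Hom.comp_apply _ _ _))
      obtain ⟨k, fi, fj, x, h1, h2⟩ := (Scheme.IsLocallyDirected.ι_eq_ι_iff (F := span g.left g.left)
        (i := WalkingSpan.left) (j := WalkingSpan.right)).1 e1
      cases fi with
      | id => cases fj
      | init _ => exact ⟨x, h1⟩
    let l := IsOpenImmersion.lift g.left u.left hr
    have hl : l ≫ g.left = u.left := IsOpenImmersion.lift_fac _ _ _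
    let w : Z ⟶ V := MorphismProperty.Over.homMk l
      ((congrArg (l ≫ ·) (MorphismProperty.Over.w g).symm).trans ((Category.assoc _ _ _).symm.trans
        ((congrArg (· ≫ U.hom) hl).trans (MorphismProperty.Over.w u))))
    have hu : u = w ≫ g := MorphismProperty.Over.Hom.ext hl.symm
    have hv : v = w ≫ g := by
      refine MorphismProperty.Over.Hom.ext ((cancel_mono b₀).1 ?_)
      show v.left ≫ b₀ = (l ≫ g.left) ≫ b₀
      rw [← e0, ← hl, Category.assoc, Category.assoc, pushout.condition]
    rw [hu, hv, ← L27.Colim.map_comp, ← L27.Colim.map_comp, hpq]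
  have hsame : ∀ (c : U ⟶ W) [Mono c.left] {Z : X.Etale} (u v : Z ⟶ U) (y : F.obj.obj (op U)),
      u ≫ c = v ≫ c → F.obj.map u.op y = F.obj.map v.op y := by
    intro c _ Z u v y e
    rw [show u = v from MorphismProperty.Over.Hom.ext ((cancel_mono c.left).1 (congrArg (fun k => k.left) e))]
  haveI : Mono a.left := inferInstanceAs (Mono a₀)
  haveI : Mono b.left := inferInstanceAs (Mono b₀)
  let fam : Bool → F.obj.obj (op U) := fun c => bif c then p else q
  obtain ⟨r, hr, -⟩ := hsh fam (by
    rintro (_ | _) (_ | _) Z u v e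
    · exact hsame b u v q e
    · exact (hfac v u e.symm).symm
    · exact hfac u v e
    · exact hsame a u v p e)
  exact ⟨r, hr true, hr false⟩

end Double

theorem surjective_restr (F : EtCoh.Ab X)
    (hF : ∀ W : X.Etale, Subsingleton (EtCoh.H W.left ((EtCoh.pull (X := W.left) (Y := X) W.hom).obj F) 1))
    {U V : X.Etale} (g : V ⟶ U) [IsOpenImmersion g.left] : Function.Surjective (F.obj.map g.op) := by
  haveI : Mono g := ⟨fun u v e => MorphismProperty.Over.Hom.ext ((cancel_mono g.left).1 (congrArg (fun k => k.left) e))⟩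
  let E := ShortComplex.mk (Injective.ι F) (cokernel.π _) (cokernel.condition _)
  have hE : E.ShortExact := { exact := ShortComplex.exact_of_g_is_cokernel _ (cokernelIsCokernel _) }
  intro s
  obtain ⟨i, hi⟩ := surjective_restr_injective (Injective.under F) g (E.f.hom.app (op V) s)
  let q := E.g.hom.app (op U) i
  obtain ⟨W, a, b, hab, hglue⟩ := exists_double g
  have hq : E.X₃.obj.map g.op q = 0 := by
    refine (NatTrans.naturality_apply E.g.hom g.op i).symm.trans ?_
    exact (congrArg (E.g.hom.app (op V)) hi).trans (L27.Colim.app_comp (E := E) V s)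
  obtain ⟨r, hra, hrb⟩ := hglue E.X₃ q 0 (hq.trans (map_zero _).symm)
  obtain ⟨tW, htW⟩ := surjective_sections hE W (hF W) r
  let ta := E.X₂.obj.map a.op tW
  let tb := E.X₂.obj.map b.op tW
  have hgt : E.g.hom.app (op U) (ta - tb) = q := by
    rw [map_sub, NatTrans.naturality_apply E.g.hom a.op tW, NatTrans.naturality_apply E.g.hom b.op tW, htW, hra, hrb,
      sub_zero]
  obtain ⟨f, hf⟩ := L27.Colim.app_exact hE U (i - (ta - tb)) (by rw [map_sub, hgt, sub_self])
  refine ⟨f, L27.Colim.app_injective hE V ?_⟩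
  refine (NatTrans.naturality_apply E.f.hom g.op f).trans ?_
  refine (congrArg (E.X₂.obj.map g.op) hf).trans ?_
  rw [map_sub, map_sub, L27.Colim.map_comp, L27.Colim.map_comp, hab, sub_self, sub_zero]
  exact hi

end Groth.L28.Flasque
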